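import Mathlib.AlgebraicGeometry.Morphisms.Finite
import Mathlib.AlgebraicGeometry.Noetherian
import Mathlib.AlgebraicGeometry.Morphisms.Preimmersion
import Mathlib.Topology.KrullDimension

set_option autoImplicit false
universe u
open CategoryTheory Limits AlgebraicGeometry TopologicalSpace Topology

namespace Groth.Agent.DimOneAffHom

/-- In dimension at most one, a point with a proper generization is closed. -/
theorem isClosed_singleton_of_proper_generization {α : Type u} [TopologicalSpace α] [T0Space α]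
    (hdim : topologicalKrullDim α ≤ 1) {x s : α} (h : x ⤳ s) (hne : x ≠ s) : IsClosed ({s} : Set α) := by
  refine isClosed_of_closure_subset fun w hw => ?_
  have hsw : s ⤳ w := specializes_iff_mem_closure.2 hw
  by_contra hws
  have hws : w ≠ s := hws
  let C : α → IrreducibleCloseds α := fun a => ⟨closure {a}, isIrreducible_singleton.closure, isClosed_closure⟩
  have key : ∀ a b : α, a ⤳ b → a ≠ b → C b < C a := fun a b hab hne => by
    refine lt_of_le_of_ne (fun y hy => ?_) fun e => hne ?_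
    · exact closure_minimal (by simpa using hab.mem_closure) isClosed_closure hy
    · have e' : closure ({b} : Set α) = closure {a} := congrArg (fun c : IrreducibleCloseds α => (c : Set α)) e
      have ha : a ∈ closure ({b} : Set α) := e'.symm ▸ subset_closure rfl
      exact (hab.antisymm (specializes_iff_mem_closure.2 ha)).eq
  rcases Order.krullDim_le_one_iff.1 hdim (C s) with hmin | hmax
  · exact (key s w hsw (Ne.symm hws)).not_ge (hmin (key s w hsw (Ne.symm hws)).le)
  · exact (key x s h hne).not_ge (hmax (key x s h hne).le)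

/-- An open subset whose trace on a closed subset is closed under specialization is closed there. -/
theorem isClosed_inter_of_stable {α : Type u} [TopologicalSpace α] [NoetherianSpace α] [QuasiSober α]
    {U F : Set α} (hU : IsOpen U) (hF : IsClosed F)
    (h : ∀ x z, x ∈ U → x ∈ F → x ⤳ z → z ∈ U) : IsClosed (U ∩ F) := by
  refine isClosed_of_closure_subset fun z hz => ⟨?_, hF.closure_subset (closure_mono Set.inter_subset_right hz)⟩
  obtain ⟨t, ht, htC⟩ := NoetherianSpace.exists_finite_set_isClosed_irreducible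
    (isClosed_closure (s := U ∩ F))
  obtain ⟨hcl, hirr, hC⟩ := htC
  have hsub : U ∩ F ⊆ ⋃₀ {W ∈ t | (W ∩ U).Nonempty} := fun y hy => by
    have : y ∈ ⋃₀ t := hC ▸ subset_closure hy
    obtain ⟨W, hW, hyW⟩ := this
    exact ⟨W, ⟨hW, y, hyW, hy.1⟩, hyW⟩
  have hcl' : IsClosed (⋃₀ {W ∈ t | (W ∩ U).Nonempty}) := by
    rw [Set.sUnion_eq_biUnion]
    exact (ht.subset fun W hW => hW.1).isClosed_biUnion fun W hW => hcl W hW.1
  obtain ⟨W, ⟨hW, hWU⟩, hzW⟩ := closure_minimal hsub hcl' hz
  have hgen := (hirr W hW).isGenericPoint_genericPoint (hcl W hW)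
  have hgU : (hirr W hW).genericPoint ∈ U := (hgen.mem_open_set_iff hU).2 (by simpa using hWU)
  have hWF : W ⊆ F := fun y hy => hF.closure_subset (closure_mono Set.inter_subset_right
    (hC ▸ Set.mem_sUnion_of_mem hy hW))
  exact h _ z hgU (hWF hgen.mem) (hgen.specializes hzW)

/-- A closed set, all of whose points map to closed points, has finite image. -/
theorem finite_image_of_closed_points {α β : Type u} [TopologicalSpace α] [NoetherianSpace α] [QuasiSober α]
    [TopologicalSpace β] {q : α → β} (hq : Continuous q) {K : Set α} (hK : IsClosed K)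
    (h : ∀ z ∈ K, IsClosed ({q z} : Set β)) : (q '' K).Finite := by
  obtain ⟨t, ht, hcl, hirr, rfl⟩ := NoetherianSpace.exists_finite_set_isClosed_irreducible hK
  rw [Set.image_sUnion, Set.sUnion_image]
  refine ht.biUnion fun W hW => Set.Subsingleton.finite ?_
  have hgen := (hirr W hW).isGenericPoint_genericPoint (hcl W hW)
  have key : ∀ z ∈ W, q z = q (hirr W hW).genericPoint := fun z hz => by
    have h1 : q (hirr W hW).genericPoint ⤳ q z := (hgen.specializes hz).map hq
    have h2 := h1.mem_closed (h _ (Set.mem_sUnion_of_mem hgen.mem hW)) rfl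
    exact h2
  rintro _ ⟨z, hz, rfl⟩ _ ⟨z', hz', rfl⟩
  rw [key z hz, key z' hz']

/-- On a Noetherian affine base of dimension at most one, a non-minimal point is cut out, near
itself, by one function. -/
theorem exists_fun {R : Type u} [CommRing R] [IsNoetherianRing R] (P : PrimeSpectrum R)
    (hP : P.asIdeal ∉ minimalPrimes R) (hdim : topologicalKrullDim (PrimeSpectrum R) ≤ 1) :
    ∃ h : R, h ∈ P.asIdeal ∧ (PrimeSpectrum.zeroLocus {h}).Finite ∧
      ∀ Q ∈ PrimeSpectrum.zeroLocus {h}, ∃ Q', Q' ⤳ Q ∧ Q' ≠ Q := by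
  have hnot : ¬ ((P.asIdeal : Set R) ⊆ ⋃ I ∈ ((minimalPrimes.finite_of_isNoetherianRing R).toFinset : Set (Ideal R)), I) := by
    rw [Ideal.subset_union_prime (⊥ : Ideal R) ⊥ fun I hI _ _ => ((Set.Finite.mem_toFinset _).1 hI).1.1]
    rintro ⟨I, hI, hle⟩
    have hI' := (Set.Finite.mem_toFinset _).1 hI
    exact hP (le_antisymm hle (hI'.2 ⟨P.2, bot_le⟩ hle) ▸ hI')
  obtain ⟨h, hh, hh'⟩ := Set.not_subset.1 hnot
  suffices key : ∀ Q ∈ PrimeSpectrum.zeroLocus {h}, ∃ Q', Q' ⤳ Q ∧ Q' ≠ Q by
    refine ⟨h, hh, ?_, key⟩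
    refine (Set.image_id (PrimeSpectrum.zeroLocus {h})) ▸ finite_image_of_closed_points continuous_id
      (PrimeSpectrum.isClosed_zeroLocus _) fun Q hQ => ?_
    obtain ⟨Q', hs, hne⟩ := key Q hQ
    exact isClosed_singleton_of_proper_generization hdim hs hne
  intro Q hQ
  obtain ⟨I, hI, hIQ⟩ := Ideal.exists_minimalPrimes_le (I := (⊥ : Ideal R)) (J := Q.asIdeal) bot_le
  have hne : (⟨I, hI.1.1⟩ : PrimeSpectrum R) ≠ Q := fun e => hh' (Set.mem_biUnion
    ((Set.Finite.mem_toFinset _).2 hI) (by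
      have : I = Q.asIdeal := congrArg PrimeSpectrum.asIdeal e
      rw [this]
      exact hQ rfl))
  exact ⟨_, (PrimeSpectrum.le_iff_specializes ⟨I, hI.1.1⟩ Q).1 hIQ, hne⟩

/-- A clopen part of an affine open is affine. -/
theorem isAffineOpen_of_closed_in {T : Scheme.{u}} {W D : T.Opens} (hD : IsAffineOpen D) (hle : W ≤ D)
    {A : Set T} (hA : IsClosed A) (h : (W : Set T) = A ∩ D) : IsAffineOpen W := by
  haveI : IsAffine D := hD
  have : IsClosedImmersion (T.homOfLE hle) := .of_isPreimmersion _ (by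
    have : Set.range (T.homOfLE hle) = D.ι ⁻¹' A := by
      have he : (T.homOfLE hle).opensRange = D.ι ⁻¹ᵁ W := T.opensRange_homOfLE hle
      change ((T.homOfLE hle).opensRange : Set D.toScheme) = _
      rw [he]
      ext y
      change y.1 ∈ (W : Set T) ↔ y.1 ∈ A
      rw [h]
      exact ⟨fun hy => hy.1, fun hy => ⟨hy, y.2⟩⟩
    rw [this]
    exact hA.preimage D.ι.continuous)
  exact isAffine_of_isAffineHom (T.homOfLE hle)

/-- An open of an affine Noetherian scheme over a Noetherian base of dimension at most one, which is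
closed under specialization inside every fibre, is affine. -/
theorem isAffineOpen_of_fibrewise_stable {T S : Scheme.{u}} [IsAffine T] [IsLocallyNoetherian T]
    [IsLocallyNoetherian S] (hdim : topologicalKrullDim S ≤ 1) (q : T ⟶ S) (U : T.Opens)
    (hst : ∀ x z, x ∈ U → x ⤳ z → q x = q z → z ∈ U) : IsAffineOpen U := by
  haveI : IsNoetherian T := {}
  haveI : NoetherianSpace T := inferInstance
  let A : Set T := closure U
  let K : Set T := A \ U
  have hK : IsClosed K := isClosed_closure.sdiff U.2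
  have hgen : ∀ z ∈ K, ∃ x ∈ U, x ⤳ z ∧ q x ≠ q z := by
    rintro z ⟨hzA, hzU⟩
    obtain ⟨t, ht, hcl, hirr, hC⟩ := NoetherianSpace.exists_finite_set_isClosed_irreducible
      (isClosed_closure (s := (U : Set T)))
    have hsub : (U : Set T) ⊆ ⋃₀ {W ∈ t | (W ∩ U).Nonempty} := fun y hy => by
      have : y ∈ ⋃₀ t := hC ▸ subset_closure hy
      obtain ⟨W, hW, hyW⟩ := this
      exact ⟨W, ⟨hW, y, hyW, hy⟩, hyW⟩
    have hcl' : IsClosed (⋃₀ {W ∈ t | (W ∩ U).Nonempty}) := by
      rw [Set.sUnion_eq_biUnion]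
      exact (ht.subset fun W hW => hW.1).isClosed_biUnion fun W hW => hcl W hW.1
    obtain ⟨W, ⟨hW, hWU⟩, hzW⟩ := closure_minimal hsub hcl' hzA
    have hg := (hirr W hW).isGenericPoint_genericPoint (hcl W hW)
    refine ⟨_, (hg.mem_open_set_iff U.2).2 (by simpa using hWU), hg.specializes hzW, fun e => hzU ?_⟩
    exact hst _ z ((hg.mem_open_set_iff U.2).2 (by simpa using hWU)) (hg.specializes hzW) e
  have hclosed : ∀ z ∈ K, IsClosed ({q z} : Set S) := fun z hz => by
    obtain ⟨x, -, hxz, hne⟩ := hgen z hz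
    exact isClosed_singleton_of_proper_generization hdim (hxz.map q.continuous) hne
  have hfinK := finite_image_of_closed_points q.continuous hK hclosed
  suffices h : IsAffineHom U.ι from
    haveI := h
    isAffine_of_isAffineHom U.ι
  have key : ∀ z : T, ∃ D : T.Opens, z ∈ D ∧ IsAffineOpen D ∧ IsAffineOpen (U ⊓ D) := by
    intro z
    by_cases hzU : z ∈ U
    · obtain ⟨D, hD, hzD, hle⟩ := exists_isAffineOpen_mem_and_subset hzU
      exact ⟨D, hzD, hD, by rw [inf_eq_right.2 (show D ≤ U from hle)]; exact hD⟩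
    by_cases hzA : z ∉ A
    · obtain ⟨D, hD, hzD, hle⟩ := exists_isAffineOpen_mem_and_subset (U := ⟨Aᶜ, isClosed_closure.isOpen_compl⟩) hzA
      refine ⟨D, hzD, hD, ?_⟩
      have : U ⊓ D = ⊥ := eq_bot_iff.2 fun y hy => absurd (subset_closure hy.1) (hle hy.2)
      rw [this]; exact isAffineOpen_bot _
    have hz : z ∈ K := ⟨not_not.1 hzA, hzU⟩
    obtain ⟨V, hV, hsV, -⟩ := exists_isAffineOpen_mem_and_subset (show q z ∈ (⊤ : S.Opens) from trivial)
    haveI := IsLocallyNoetherian.component_noetherian ⟨V, hV⟩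
    have hdimV : topologicalKrullDim (PrimeSpectrum Γ(S, V)) ≤ 1 :=
      (IsInducing.topologicalKrullDim_le hV.fromSpec.isOpenEmbedding.isInducing).trans hdim
    let P := hV.primeIdealOf ⟨q z, hsV⟩
    have hP : hV.fromSpec P = q z := hV.fromSpec_primeIdealOf ⟨q z, hsV⟩
    have hmin : P.asIdeal ∉ minimalPrimes Γ(S, V) := fun hm => by
      obtain ⟨x, -, hxz, hne⟩ := hgen z hz
      have hxV : q x ∈ V := (hxz.map q.continuous).mem_open V.2 hsV
      let Q := hV.primeIdealOf ⟨q x, hxV⟩
      have hQ : hV.fromSpec Q = q x := hV.fromSpec_primeIdealOf ⟨q x, hxV⟩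
      have hQP : Q ⤳ P := by
        refine hV.fromSpec.isOpenEmbedding.isInducing.specializes_iff.1 ?_
        rw [hQ, hP]
        exact hxz.map q.continuous
      have hle : Q.asIdeal ≤ P.asIdeal := (PrimeSpectrum.le_iff_specializes Q P).2 hQP
      exact hne (by rw [← hQ, ← hP, PrimeSpectrum.ext (le_antisymm hle (hm.2 ⟨Q.2, bot_le⟩ hle))])
    obtain ⟨h, hhP, hfin, hpg⟩ := exists_fun P hmin hdimV
    let F : Set S := ((q '' K) ∪ hV.fromSpec '' PrimeSpectrum.zeroLocus {h}) \ {q z}
    have hFcl : IsClosed (q ⁻¹' F ∪ (U : Set T) ∩ q ⁻¹' {q z}) := by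
      refine IsClosed.union ?_ (isClosed_inter_of_stable U.2 ((hclosed z hz).preimage q.continuous)
        fun x w hxU hx hxw => hst x w hxU hxw ?_)
      · refine IsClosed.preimage q.continuous ?_
        have hFfin : F.Finite := (hfinK.union (hfin.image _)).sdiff
        rw [← Set.biUnion_of_singleton F]
        refine hFfin.isClosed_biUnion fun s hs => ?_
        rcases hs.1 with ⟨w, hw, rfl⟩ | ⟨Q, hQ, rfl⟩
        · exact hclosed w hw
        · obtain ⟨Q', hs', hne⟩ := hpg Q hQ
          exact isClosed_singleton_of_proper_generization hdim (hs'.map hV.fromSpec.continuous)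
            (hV.fromSpec.isOpenEmbedding.injective.ne hne)
      · have h1 : q x ⤳ q w := hxw.map q.continuous
        have hx' : q x = q z := hx
        rw [hx'] at h1 ⊢
        exact (h1.mem_closed (hclosed z hz) rfl).symm
    let O : T.Opens := ⟨(q ⁻¹ᵁ V : Set T) ∩ (q ⁻¹' F ∪ (U : Set T) ∩ q ⁻¹' {q z})ᶜ,
      (q ⁻¹ᵁ V).2.inter hFcl.isOpen_compl⟩
    have hzO : z ∈ O := ⟨hsV, by rintro (hh | hh); exacts [hh.2 rfl, hzU hh.1]⟩
    obtain ⟨D, hD, hzD, hle⟩ := exists_isAffineOpen_mem_and_subset hzO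
    refine ⟨D, hzD, hD, ?_⟩
    have hDV : D ≤ q ⁻¹ᵁ V := fun y hy => (hle hy).1
    let f : Γ(T, D) := (q.appLE V D hDV).hom h
    have hmem : ∀ y ∈ D, (y ∈ T.basicOpen f ↔ q y ∈ S.basicOpen h) := fun y hy => by
      have := Scheme.Hom.preimage_basicOpen q h
      rw [show f = (T.presheaf.map (homOfLE hDV).op).hom ((q.app V).hom h) from rfl, Scheme.basicOpen_res, ← this]
      exact ⟨fun hh => hh.2, fun hh => ⟨hy, hh⟩⟩
    have hzero : ∀ y ∈ D, (q y ∈ S.basicOpen h ↔ q y ∉ hV.fromSpec '' PrimeSpectrum.zeroLocus {h}) := fun y hy => by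
      have e := hV.fromSpec_preimage_basicOpen h
      have hyQ := hV.fromSpec_primeIdealOf ⟨q y, hDV hy⟩
      constructor
      · rintro hh ⟨Q, hQ, hQy⟩
        have : Q ∈ hV.fromSpec ⁻¹ᵁ S.basicOpen h := show hV.fromSpec Q ∈ S.basicOpen h from hQy ▸ hh
        rw [e] at this
        exact this (hQ rfl)
      · intro hh
        by_contra hnot
        refine hh ⟨_, ?_, hyQ⟩
        intro a ha
        rw [Set.mem_singleton_iff.1 ha]
        by_contra hne
        apply hnot
        have : hV.primeIdealOf ⟨q y, hDV hy⟩ ∈ hV.fromSpec ⁻¹ᵁ S.basicOpen h := by rw [e]; exact hne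
        have h2 : hV.fromSpec (hV.primeIdealOf ⟨q y, hDV hy⟩) ∈ S.basicOpen h := this
        rwa [hyQ] at h2
    refine isAffineOpen_of_closed_in (D := T.basicOpen f) (hD.basicOpen f) ?_ isClosed_closure (A := A) ?_
    · rintro y ⟨hyU, hyD⟩
      rw [hmem y hyD, hzero y hyD]
      rintro hh
      by_cases e : q y = q z
      · exact (hle hyD).2 (Or.inr ⟨hyU, e⟩)
      · exact (hle hyD).2 (Or.inl ⟨Or.inr hh, e⟩)
    · ext y
      refine ⟨fun hy => ⟨subset_closure hy.1, ?_⟩, fun ⟨hyA, hyf⟩ => ?_⟩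
      · rw [SetLike.mem_coe, hmem y hy.2, hzero y hy.2]
        rintro hh
        by_cases e : q y = q z
        · exact (hle hy.2).2 (Or.inr ⟨hy.1, e⟩)
        · exact (hle hy.2).2 (Or.inl ⟨Or.inr hh, e⟩)
      · have hyD : y ∈ D := T.basicOpen_le f hyf
        refine ⟨?_, hyD⟩
        by_contra hyU
        have hyK : y ∈ K := ⟨hyA, hyU⟩
        by_cases e : q y = q z
        · have := (hzero y hyD).1 ((hmem y hyD).1 hyf)
          exact this ⟨P, fun a ha => (Set.mem_singleton_iff.1 ha) ▸ hhP, by rw [hP, e]⟩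
        · exact (hle hyD).2 (Or.inl ⟨Or.inl ⟨y, hyK, rfl⟩, e⟩)
  choose D hzD hD hUD using key
  refine isAffineHom_of_forall_exists_isAffineOpen _ fun z => ?_
  refine ⟨D z, hzD z, hD z, ?_⟩
  rw [← Scheme.Hom.isAffineOpen_iff_of_isOpenImmersion U.ι, Scheme.Hom.image_preimage_eq_opensRange_inf,
    Scheme.Opens.opensRange_ι]
  exact hUD z

set_option backward.isDefEq.respectTransparency false in
/-- A point-level consequence of finiteness of the base change to a preimmersed subset. -/
theorem mem_range_of_finite_baseChange {X T Y P : Scheme.{u}} (j : X ⟶ T) [IsOpenImmersion j]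
    (g : T ⟶ Y) [IsSeparated g] (m : P ⟶ Y) [IsPreimmersion m] [IsFinite (pullback.snd (j ≫ g) m)]
    {x : X} {z : T} (h : j x ⤳ z) (hx : g (j x) ∈ Set.range m) (hz : g z ∈ Set.range m) :
    z ∈ Set.range j := by
  let φ : pullback (j ≫ g) m ⟶ pullback g m :=
    pullback.map _ _ _ _ j (𝟙 _) (𝟙 _) (by simp) (by simp)
  haveI : IsFinite (φ ≫ pullback.snd g m) := by
    rw [show φ ≫ pullback.snd g m = pullback.snd (j ≫ g) m by simp [φ]]; infer_instance
  haveI : IsFinite φ := IsFinite.of_comp φ (pullback.snd g m)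
  obtain ⟨a, ha⟩ := hx
  obtain ⟨p, hp, -⟩ := Scheme.Pullback.exists_preimage_pullback (f := j ≫ g) (g := m) x a (by simpa using ha.symm)
  obtain ⟨b, hb⟩ := hz
  obtain ⟨r, hr, -⟩ := Scheme.Pullback.exists_preimage_pullback (f := g) (g := m) z b hb.symm
  have hφ : pullback.fst g m (φ p) = j x := by
    rw [← Scheme.Hom.comp_apply, show φ ≫ pullback.fst g m = pullback.fst (j ≫ g) m ≫ j by simp [φ],
      Scheme.Hom.comp_apply, hp]
  have hspec : φ p ⤳ r := by
    rw [← (pullback.fst g m).isEmbedding.isInducing.specializes_iff, hφ, hr]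
    exact h
  obtain ⟨p', hp'⟩ := hspec.mem_closed φ.isClosedMap.isClosed_range ⟨p, rfl⟩
  refine ⟨pullback.fst (j ≫ g) m p', ?_⟩
  rw [← hr, ← hp', ← Scheme.Hom.comp_apply, ← Scheme.Hom.comp_apply]
  simp [φ]

end Groth.Agent.DimOneAffHom
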